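import Groth.Agent.Lib.RatSing74.Trace
import Groth.Agent.Lib.Normalization.InFieldGeneric
import Groth.Agent.S15137
import Groth.Agent.S18426
import Groth.Agent.H34.Stein.NormalBase
import Mathlib.FieldTheory.PurelyInseparable.Basic

/-!
# Rational singularities descend along finite extensions of degree prime to the residue characteristic
-/

set_option autoImplicit false
set_option linter.style.haveILetI false

universe u

open CategoryTheory CategoryTheory.Limits AlgebraicGeometry TopologicalSpace Opposite

namespace Groth.Agent.Lib.RatSing74.FiniteExt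

open Groth.Agent Groth.Agent.Lib

theorem isSeparable_of_finrank_ne_zero (F E : Type u) [Field F] [Field E] [Algebra F E]
    [FiniteDimensional F E] (h : ((Module.finrank F E : ℕ) : F) ≠ 0) : Algebra.IsSeparable F E := by
  rw [isSeparable_iff_finInsepDegree_eq_one]
  obtain ⟨q, hq⟩ := ExpChar.exists F
  obtain ⟨n, hn⟩ := finInsepDegree_eq_pow F E q
  cases hq with
  | zero => rw [hn, one_pow]
  | prime hp =>
    rcases Nat.eq_zero_or_pos n with rfl | hpos
    · rw [hn, pow_zero]
    · refine absurd ((CharP.cast_eq_zero_iff F q _).2 ?_) h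
      rw [← Field.finSepDegree_mul_finInsepDegree F E]
      exact dvd_mul_of_dvd_right (hn ▸ dvd_pow_self q hpos.ne') _

theorem spec_isNormalScheme (B : Type u) [CommRing B] [IsDomain B] [IsIntegrallyClosed B] :
    Pi1.IsNormalScheme (Spec (CommRingCat.of B)) := fun x => by
  have key : ∀ q : PrimeSpectrum B, IsDomain ((Spec.structureSheaf B).presheaf.stalk q) ∧
      IsIntegrallyClosed ((Spec.structureSheaf B).presheaf.stalk q) := fun q =>
    haveI := IsLocalization.isDomain_of_le_nonZeroDivisors (R := B)
      ((Spec.structureSheaf B).presheaf.stalk q) q.asIdeal.primeCompl_le_nonZeroDivisors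
    ⟨this, isIntegrallyClosed_of_isLocalization ((Spec.structureSheaf B).presheaf.stalk q) _
      q.asIdeal.primeCompl_le_nonZeroDivisors⟩
  exact key x

/-- A proper birational morphism onto a normal affine scheme with vanishing `H¹` on all local schemes
at closed points has vanishing `H¹`. -/
theorem subsingleton_H1 {Y X : Scheme.{u}} [IsAffine Y] [IsLocallyNoetherian Y] [IsIntegral Y]
    [IsIntegral X] (ρ : X ⟶ Y) [IsProper ρ] (hY : Pi1.IsNormalScheme Y) (hX : Pi1.IsNormalScheme X)
    (U : Y.Opens) (hU : (U : Set Y).Nonempty) [IsIso (ρ ∣_ U)]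
    (hrat : ∀ x : Y, IsClosed ({x} : Set Y) → Curv2.IsRationalSing (Y.presheaf.stalk x)) :
    Subsingleton (Coh.HH X (Coh.structureModule X) 1) := by
  obtain ⟨hgen, hst⟩ := S15137.gen_props ρ U hU
  have happ := Groth.Agent.H34.Stein.isIso_app_of_birational ρ hY hgen hst
  haveI hu : IsIso (ClSub.unitToPush ρ) := by
    rw [Scheme.Modules.Hom.isIso_iff_isIso_app]
    intro W
    rw [ConcreteCategory.isIso_iff_bijective]
    haveI := happ W
    exact ConcreteCategory.bijective_of_isIso (ρ.app W)
  let B : Set Y.Opens := {W | Subsingleton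
    (CohTop.HU (Coh.toAb (Coh.structureModule X)) 1 ((Opens.map ρ.base).obj W))}
  have hB : Opens.IsBasis B := by
    refine Opens.isBasis_iff_nbhd.2 fun {O y} hy => ?_
    obtain ⟨x₀, hx₀, hx₀c⟩ := (isClosed_closure (s := ({y} : Set Y))).exists_closed_singleton
      ⟨y, subset_closure rfl⟩
    obtain ⟨hint, hnP, hbP⟩ := S15137.localScheme_props ρ hX hgen U hU x₀
    obtain ⟨V', hxV', hvan⟩ := S15137.exists_nhd_vanish ρ (isAffineOpen_top Y) (x := x₀) trivial
      (hrat x₀ hx₀c (pullback ρ (Y.fromSpecStalk x₀)) (pullback.snd _ _)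
        (MorphismProperty.of_isPullback (IsPullback.of_hasPullback ρ (Y.fromSpecStalk x₀)) inferInstance)
        hint hnP hbP)
    have hyV' : y ∈ V' := (specializes_iff_mem_closure.mpr hx₀).mem_open V'.2 hxV'
    obtain ⟨W, hW, hyW, hWle⟩ := exists_isAffineOpen_mem_and_subset (U := O ⊓ V') (x := y) ⟨hy, hyV'⟩
    exact ⟨W, hvan W hW fun z hz => (hWle hz).2, hyW, fun z hz => (hWle hz).1⟩
  have hH := ((ZarCoh.Push.bijective_and_injective (f := ρ.base) (⊤ : Y.Opens) hB 1
    (Coh.toAb (Coh.structureModule X))) fun W hW q hq => by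
      obtain rfl : q = 0 := by omega
      exact hW).1
  haveI : (Coh.structureModule Y).IsQuasicoherent := TensorMod.QCohInv.isQCoh_structureModule _
  haveI h0 : Subsingleton (Coh.HH Y (Coh.structureModule Y) 1) :=
    ZarCoh.Affine.HH_subsingleton Y (Coh.structureModule Y) 0
  haveI : IsIso ((SheafOfModules.toSheaf Y.ringCatSheaf).map (ClSub.unitToPush ρ)) :=
    @Functor.map_isIso _ _ _ _ _ _ (SheafOfModules.toSheaf Y.ringCatSheaf) (ClSub.unitToPush ρ) hu
  have hbij : Function.Bijective (Sheaf.H.map ((SheafOfModules.toSheaf Y.ringCatSheaf).map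
      (ClSub.unitToPush ρ)) 1) :=
    ConcreteCategory.bijective_of_isIso ((CategoryTheory.Sheaf.functorH (Opens.grothendieckTopology Y) 1).map
      ((SheafOfModules.toSheaf Y.ringCatSheaf).map (ClSub.unitToPush ρ)))
  haveI : Subsingleton (CohTop.H ((CohTop.push ρ.base).obj (Coh.toAb (Coh.structureModule X))) 1) :=
    hbij.2.subsingleton
  exact (ZarCoh.PushH.pushH_bijective_of ρ.base (Coh.toAb (Coh.structureModule X)) 1 hH).2.subsingleton

set_option backward.isDefEq.respectTransparency.types false in
/-- A point of the spectrum of a field over the generic point of a domain gives a surjection on stalks. -/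
theorem specMap_point (B L : Type u) [CommRing B] [IsDomain B] [Field L] [Algebra B L]
    [IsFractionRing B L] (z : Spec (CommRingCat.of L)) :
    Spec.map (CommRingCat.ofHom (algebraMap B L)) z = genericPoint (Spec (CommRingCat.of B)) ∧
      Function.Surjective ((Spec.map (CommRingCat.ofHom (algebraMap B L))).stalkMap z) := by
  haveI : IsPreimmersion (Spec.map (CommRingCat.ofHom (algebraMap B L))) :=
    IsPreimmersion.of_isLocalization (nonZeroDivisors B)
  refine ⟨?_, (Spec.map (CommRingCat.ofHom (algebraMap B L))).stalkMap_surjective z⟩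
  rw [genericPoint_eq_bot_of_affine]
  apply PrimeSpectrum.ext
  show Ideal.comap (algebraMap B L) z.asIdeal = ⊥
  rw [(Ideal.eq_bot_of_prime z.asIdeal : z.asIdeal = ⊥)]
  exact Ideal.comap_bot_of_injective _ (IsFractionRing.injective B L)

set_option backward.isDefEq.respectTransparency.types false in
set_option maxHeartbeats 1000000 in
/-- The main statement. -/
theorem isRationalSing_of_finite (A B K L : Type u) [CommRing A] [CommRing B] [IsDomain A] [IsDomain B]
    [IsNoetherianRing A] [IsNoetherianRing B] [IsIntegrallyClosed B]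
    [Field K] [Field L] [Algebra A K] [IsFractionRing A K] [Algebra B L] [IsFractionRing B L]
    [Algebra A B] [Module.Finite A B] [Algebra K L] [Algebra A L] [IsScalarTower A K L]
    [IsScalarTower A B L] [FiniteDimensional K L]
    (hd : IsUnit ((Module.finrank K L : ℕ) : A))
    (hB : ∀ x : Spec (CommRingCat.of B), IsClosed ({x} : Set (Spec (CommRingCat.of B))) →
      Curv2.IsRationalSing ((Spec (CommRingCat.of B)).presheaf.stalk x)) :
    Curv2.IsRationalSing A := by
  intro W f hf hint hnW ⟨U, hU, hiso⟩
  haveI := hf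
  haveI := hint
  haveI := hiso
  haveI : IsLocallyNoetherian W := LocallyOfFiniteType.isLocallyNoetherian f
  haveI : CompactSpace W := QuasiCompact.compactSpace_of_compactSpace f
  haveI : IsNoetherian W := {}
  obtain ⟨hgen, hst⟩ := S15137.gen_props f U hU
  -- the function field
  let η := genericPoint W
  let p : PrimeSpectrum A := f η
  letI : Algebra A ((Spec (CommRingCat.of A)).presheaf.stalk (f η)) :=
    StructureSheaf.stalkAlgebra (CommRingCat.of A) (f η)
  haveI : IsLocalization.AtPrime ((Spec (CommRingCat.of A)).presheaf.stalk (f η)) p.asIdeal :=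
    StructureSheaf.IsLocalization.to_stalk (CommRingCat.of A) (f η)
  have hbot : p.asIdeal.primeCompl = nonZeroDivisors A := by
    have h : p.asIdeal = ⊥ := by
      show PrimeSpectrum.asIdeal (f η) = ⊥
      rw [hgen, genericPoint_eq_bot_of_affine]
      rfl
    ext a
    simp [Ideal.primeCompl, h, mem_nonZeroDivisors_iff_ne_zero]
  let toS : A →+* (Spec (CommRingCat.of A)).presheaf.stalk (f η) :=
    (StructureSheaf.toStalk A (f η)).hom
  letI : Algebra A W.functionField := ((f.stalkMap η).hom.comp toS).toAlgebra
  haveI : IsFractionRing A W.functionField := by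
    haveI : IsLocalization (nonZeroDivisors A) ((Spec (CommRingCat.of A)).presheaf.stalk (f η)) :=
      hbot ▸ (inferInstance : IsLocalization.AtPrime _ p.asIdeal)
    exact IsLocalization.isLocalization_of_algEquiv (nonZeroDivisors A)
      (AlgEquiv.ofRingEquiv (f := (asIso (f.stalkMap η)).commRingCatIsoToRingEquiv) fun _ => rfl)
  let e : W.functionField ≃ₐ[A] K := IsLocalization.algEquiv (nonZeroDivisors A) W.functionField K
  let φ : W.functionField →+* L := (algebraMap K L).comp (e : W.functionField →+* K)
  let g : Spec (CommRingCat.of L) ⟶ W :=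
    Spec.map (CommRingCat.ofHom φ) ≫ W.fromSpecStalk (genericPoint W)
  haveI : QuasiCompact g := inferInstance
  haveI : QuasiSeparated g := inferInstance
  have hφ : φ.comp ((f.stalkMap η).hom.comp toS) = algebraMap A L := RingHom.ext fun a => by
    show algebraMap K L (e (algebraMap A W.functionField a)) = _
    rw [e.commutes, ← IsScalarTower.algebraMap_apply]
  have hgf : g ≫ f = Spec.map (CommRingCat.ofHom (algebraMap A L)) := by
    rw [← hφ]
    show (Spec.map _ ≫ W.fromSpecStalk η) ≫ f = _
    rw [Category.assoc, ← Scheme.SpecMap_stalkMap_fromSpecStalk, Spec.fromSpecStalk_eq']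
    refine Eq.trans ?_ ((Spec.map_comp (StructureSheaf.toStalk A (f η) ≫ f.stalkMap η)
      (CommRingCat.ofHom φ)).symm.trans rfl)
    exact congrArg (Spec.map (CommRingCat.ofHom φ) ≫ ·) (Spec.map_comp _ _).symm
  letI : Algebra W.functionField L := φ.toAlgebra
  have hrank : Module.finrank W.functionField L = Module.finrank K L :=
    Algebra.finrank_eq_of_equiv_equiv e.toRingEquiv (RingEquiv.refl L) rfl
  have hpos : 0 < Module.finrank W.functionField L := hrank ▸ Module.finrank_pos
  haveI hfd : FiniteDimensional W.functionField L := Module.finite_of_finrank_pos hpos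
  haveI : Algebra.IsSeparable W.functionField L := by
    refine isSeparable_of_finrank_ne_zero _ _ ?_
    rw [hrank]
    have h := hd.map (algebraMap A W.functionField)
    rw [map_natCast] at h
    exact h.ne_zero
  -- the normalization and its map to `Spec B`
  haveI hfin : IsFinite g.fromNormalization := Groth.Agent.S18426.result hnW L
  haveI : IsIntegral g.normalization := Normalization.InField.isIntegral_normalization g
  have hn' : Pi1.IsNormalScheme g.normalization := Normalization.InField.isNormalScheme φ g rfl
  let b : Spec (CommRingCat.of B) ⟶ Spec (CommRingCat.of A) :=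
    Spec.map (CommRingCat.ofHom (algebraMap A B))
  haveI : IsFinite b := (IsFinite.SpecMap_iff _).mpr (RingHom.finite_algebraMap.mpr inferInstance)
  let sL : Spec (CommRingCat.of L) ⟶ Spec (CommRingCat.of B) :=
    Spec.map (CommRingCat.ofHom (algebraMap B L))
  have hsL : g ≫ f = sL ≫ b := by
    rw [hgf, ← Spec.map_comp, ← CommRingCat.ofHom_comp, ← IsScalarTower.algebraMap_eq]
  let ℓ := pullback.lift g sL hsL
  haveI : IsFinite (pullback.fst f b) :=
    MorphismProperty.of_isPullback (IsPullback.of_hasPullback f b).flip inferInstance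
  have hℓ : g = ℓ ≫ pullback.fst f b := (pullback.lift_fst _ _ _).symm
  let π : g.normalization ⟶ Spec (CommRingCat.of B) :=
    g.normalizationDesc ℓ (pullback.fst f b) hℓ ≫ pullback.snd f b
  have hπb : π ≫ b = g.fromNormalization ≫ f := by
    simp only [π, Category.assoc, ← pullback.condition]
    rw [Scheme.Hom.normalizationDesc_comp_assoc]
  haveI : IsProper π := by
    haveI : IsProper (π ≫ b) := hπb ▸ inferInstance
    exact IsProper.of_comp π b
  have hπL : g.toNormalization ≫ π = sL := by
    simp only [π, Scheme.Hom.toNormalization_normalizationDesc_assoc, ℓ, pullback.lift_snd]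
  have hnB := spec_isNormalScheme B
  -- birationality
  obtain ⟨z⟩ := (inferInstance : Nonempty (Spec (CommRingCat.of L)))
  have hz := Normalization.InFieldGeneric.toNormalization_eq_genericPoint φ g rfl z
  have hπgen : π (genericPoint g.normalization) = genericPoint (Spec (CommRingCat.of B)) := by
    rw [← hz, ← Scheme.Hom.comp_apply, hπL]
    exact (specMap_point B L z).1
  have hπst : IsIso (π.stalkMap (genericPoint g.normalization)) := by
    rw [← hz, ConcreteCategory.isIso_iff_bijective]
    have hfield : IsField ((Spec (CommRingCat.of B)).presheaf.stalk (π (g.toNormalization z))) := by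
      rw [hz, hπgen]
      exact Field.toIsField (Spec (CommRingCat.of B)).functionField
    have hfield' : IsField (g.normalization.presheaf.stalk (g.toNormalization z)) := by
      rw [hz]
      exact Field.toIsField g.normalization.functionField
    refine ⟨?_, ?_⟩
    · letI := hfield.toField
      exact (π.stalkMap _).hom.injective
    · letI := hfield'.toField
      have hi : Function.Injective (g.toNormalization.stalkMap z) := (g.toNormalization.stalkMap z).hom.injective
      have key : ∀ (s : Spec (CommRingCat.of L) ⟶ Spec (CommRingCat.of B)),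
          Function.Surjective (s.stalkMap z) → s = g.toNormalization ≫ π →
          Function.Surjective ((g.toNormalization ≫ π).stalkMap z) := by
        rintro _ h rfl
        exact h
      have hsurj := key sL (specMap_point B L z).2 hπL.symm
      rw [Scheme.Hom.stalkMap_comp] at hsurj
      intro v
      obtain ⟨w, hw⟩ := hsurj (g.toNormalization.stalkMap z v)
      exact ⟨w, hi hw⟩
  have hπapp := Groth.Agent.H34.Stein.isIso_app_of_birational π hnB hπgen hπst
  have hηU : genericPoint (Spec (CommRingCat.of A)) ∈ U :=
    (genericPoint_specializes hU.some).mem_open U.2 hU.some_mem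
  obtain ⟨V, hV, hηV, hVU⟩ := exists_isAffineOpen_mem_and_subset (U := U)
    (x := genericPoint (Spec (CommRingCat.of A))) hηU
  have hfV : IsAffineOpen (f ⁻¹ᵁ V) := by
    haveI : IsIso (f ∣_ V) := ModPair.isIso_restrict_of_isPullback (IsPullback.of_id_fst (f := f)) U (V := V) hVU
    haveI : IsAffine (V : Scheme.{u}) := hV
    exact IsAffine.of_isIso (f ∣_ V)
  have hbV : IsAffineOpen (b ⁻¹ᵁ V) := hV.preimage b
  have hπV : IsAffineOpen (π ⁻¹ᵁ (b ⁻¹ᵁ V)) := by
    rw [← Scheme.Hom.comp_preimage, hπb, Scheme.Hom.comp_preimage]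
    exact hfV.preimage g.fromNormalization
  haveI : IsIso (π ∣_ (b ⁻¹ᵁ V)) := by
    haveI : IsAffine (b ⁻¹ᵁ V : (Spec (CommRingCat.of B)).Opens).toScheme := hbV
    haveI : IsAffine (π ⁻¹ᵁ (b ⁻¹ᵁ V) : g.normalization.Opens).toScheme := hπV
    suffices h : IsIso (π ∣_ (b ⁻¹ᵁ V)).appTop by
      haveI := h
      have hn := Scheme.isoSpec_hom_naturality (π ∣_ (b ⁻¹ᵁ V))
      rw [eq_comm, ← Iso.eq_comp_inv] at hn
      rw [hn]
      infer_instance
    rw [Scheme.Hom.appTop, morphismRestrict_app]
    exact @IsIso.comp_isIso _ _ _ _ _ _ _ (hπapp _) (Functor.map_isIso _ _)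
  have hne : ((b ⁻¹ᵁ V : (Spec (CommRingCat.of B)).Opens) : Set (Spec (CommRingCat.of B))).Nonempty := by
    refine ⟨π (genericPoint g.normalization), ?_⟩
    show b (π (genericPoint g.normalization)) ∈ V
    rw [← Scheme.Hom.comp_apply, hπb, Scheme.Hom.comp_apply,
      Normalization.InField.fromNormalization_genericPoint φ g rfl, hgen]
    exact hηV
  haveI h' := subsingleton_H1 π hnB hn' (b ⁻¹ᵁ V) hne hB
  -- the trace
  haveI : (Coh.structureModule g.normalization).IsQuasicoherent :=
    TensorMod.QCohInv.isQCoh_structureModule _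
  let P := Coh.toAb ((Coh.push g.fromNormalization).obj (Coh.structureModule g.normalization))
  haveI : Subsingleton (CohTop.H P 1) :=
    (ZarCoh.PushH.pushH_bijective_of g.fromNormalization.base (Coh.toAb (Coh.structureModule g.normalization)) 1
      (ZarCoh.Morph.pushMap_bijective g.fromNormalization (Coh.structureModule g.normalization) ⊤ 1)).1.subsingleton
  obtain ⟨c, hc⟩ : IsUnit ((Module.finrank W.functionField L : ℕ) : Coh.Γtop W) := by
    rw [hrank]
    let α : A →+* Coh.Γtop W := f.appTop.hom.comp (Scheme.ΓSpecIso (CommRingCat.of A)).inv.hom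
    have h := hd.map α
    rwa [map_natCast] at h
  set t := Trace.traceHom φ g rfl hnW
  have hcomp := Trace.unit_comp_trace φ g rfl hnW
  rw [← hc] at hcomp
  refine subsingleton_of_forall_eq 0 fun v => ?_
  have hid : ((SheafOfModules.toSheaf W.ringCatSheaf).map (ClSub.unitToPush g.fromNormalization) ≫ t) ≫
      Coh.smulAb (Coh.structureModule W) (↑c⁻¹ : Coh.Γtop W) = 𝟙 _ := by
    rw [hcomp, ← Coh.smulAb_mul, Units.inv_mul, Coh.smulAb_one]
  have h1 : v = Sheaf.H.map (t ≫ Coh.smulAb (Coh.structureModule W) (↑c⁻¹ : Coh.Γtop W)) 1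
      (Sheaf.H.map ((SheafOfModules.toSheaf W.ringCatSheaf).map (ClSub.unitToPush g.fromNormalization)) 1 v) := by
    rw [← Sheaf.H.map_comp_apply, ← Category.assoc, hid, Sheaf.H.map_id_apply]
  rw [h1, Subsingleton.elim (Sheaf.H.map
    ((SheafOfModules.toSheaf W.ringCatSheaf).map (ClSub.unitToPush g.fromNormalization)) 1 v : CohTop.H P 1) 0,
    map_zero]

end Groth.Agent.Lib.RatSing74.FiniteExt
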