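import Groth.Prelude.Def_Coh
import Groth.Prelude.Def_ClSub2
import Groth.Agent.Lib.Normalization.InField
import Mathlib.RingTheory.Trace.Basic

/-!
# The trace from a normalization in a finite extension of the function field
-/

set_option autoImplicit false
set_option linter.style.haveILetI false

universe u

open CategoryTheory AlgebraicGeometry TopologicalSpace Opposite

namespace Groth.Agent.Lib.RatSing74.Trace

open Groth.Agent.Lib.Normalization.InField

variable {W : Scheme.{u}} [IsIntegral W] {L : Type u} [Field L] (φ : W.functionField →+* L)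
  (g : Spec (CommRingCat.of L) ⟶ W)
  (hg : g = Spec.map (CommRingCat.ofHom φ) ≫ W.fromSpecStalk (genericPoint W))
  [QuasiCompact g] [QuasiSeparated g]

omit [IsIntegral W] in
theorem preimage_le (U : W.Opens) : g ⁻¹ᵁ U ≤ g.toNormalization ⁻¹ᵁ (g.fromNormalization ⁻¹ᵁ U) := by
  refine le_of_eq ?_
  rw [← Scheme.Hom.comp_preimage, g.toNormalization_fromNormalization]

/-- Sections of the normalization as elements of the field. -/
noncomputable def psi (U : W.Opens) [Nonempty U] :
    Γ(g.normalization, g.fromNormalization ⁻¹ᵁ U) →+* L :=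
  (genEquiv φ g hg U).toRingHom.comp
    (g.toNormalization.appLE (g.fromNormalization ⁻¹ᵁ U) (g ⁻¹ᵁ U) (preimage_le g U)).hom

theorem psi_app (U : W.Opens) [Nonempty U] (a : Γ(W, U)) :
    psi φ g hg U (g.fromNormalization.app U a) = φ (W.germToFunctionField U a) := by
  have key : ∀ (g' : Spec (CommRingCat.of L) ⟶ W) (_ : g.toNormalization ≫ g.fromNormalization = g')
      (e : g' ⁻¹ᵁ U ≤ g.toNormalization ⁻¹ᵁ (g.fromNormalization ⁻¹ᵁ U)),
      g.fromNormalization.app U ≫ g.toNormalization.appLE _ (g' ⁻¹ᵁ U) e = g'.app U := by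
    rintro _ rfl e
    simp only [Scheme.Hom.app_eq_appLE, Scheme.Hom.appLE_comp_appLE]
  have h := congr($(key g g.toNormalization_fromNormalization (preimage_le g U)) a)
  show genEquiv φ g hg U ((g.toNormalization.appLE _ _ _) (g.fromNormalization.app U a)) = _
  erw [h]
  exact genEquiv_app φ g hg U a

theorem psi_res {U V : W.Opens} [Nonempty U] [Nonempty V] (hVU : V ≤ U)
    (s : Γ(g.normalization, g.fromNormalization ⁻¹ᵁ U)) :
    psi φ g hg V (g.normalization.presheaf.map
      ((Opens.map g.fromNormalization.base).map (homOfLE hVU)).op s) = psi φ g hg U s := by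
  have h : g.normalization.presheaf.map ((Opens.map g.fromNormalization.base).map (homOfLE hVU)).op ≫
      g.toNormalization.appLE _ (g ⁻¹ᵁ V) (preimage_le g V) ≫
      (Spec (CommRingCat.of L)).presheaf.map (eqToHom (preimage_eq_top φ g hg V).symm).op =
      g.toNormalization.appLE _ (g ⁻¹ᵁ U) (preimage_le g U) ≫
        (Spec (CommRingCat.of L)).presheaf.map (eqToHom (preimage_eq_top φ g hg U).symm).op := by
    rw [Scheme.Hom.appLE_map, Scheme.Hom.appLE_map]
    exact Scheme.Hom.map_appLE _ _ _
  exact congrArg (Scheme.ΓSpecIso (CommRingCat.of L)).hom congr($h s)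

theorem isIntegral_psi {U : W.Opens} (hU : IsAffineOpen U) [Nonempty U]
    (s : Γ(g.normalization, g.fromNormalization ⁻¹ᵁ U)) :
    (φ.comp (W.germToFunctionField U).hom).IsIntegralElem (psi φ g hg U s) := by
  have h := g.fromNormalization.isIntegral_app U hU s
  obtain ⟨p, hpm, hp⟩ := h
  refine ⟨p, hpm, ?_⟩
  have hcomp : φ.comp (W.germToFunctionField U).hom =
      (psi φ g hg U).comp (g.fromNormalization.app U).hom :=
    RingHom.ext fun a => (psi_app φ g hg U a).symm
  have h2 := congrArg (psi φ g hg U) hp
  rw [map_zero, Polynomial.hom_eval₂] at h2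
  rw [hcomp]
  exact h2

section Trace

variable (hnW : Pi1.IsNormalScheme W)

/-- The trace of a section, as a rational function. -/
noncomputable def tau (U : W.Opens) [Nonempty U] :
    Γ(g.normalization, g.fromNormalization ⁻¹ᵁ U) →+ W.functionField :=
  letI := φ.toAlgebra
  (Algebra.trace W.functionField L).toAddMonoidHom.comp (psi φ g hg U).toAddMonoidHom

theorem tau_res {U V : W.Opens} [Nonempty U] [Nonempty V] (hVU : V ≤ U)
    (s : Γ(g.normalization, g.fromNormalization ⁻¹ᵁ U)) :
    tau φ g hg V (g.normalization.presheaf.map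
      ((Opens.map g.fromNormalization.base).map (homOfLE hVU)).op s) = tau φ g hg U s := by
  letI := φ.toAlgebra
  exact congrArg (Algebra.trace W.functionField L) (psi_res φ g hg hVU s)

omit [QuasiCompact g] [QuasiSeparated g] in
theorem germ_res {U V : W.Opens} [Nonempty U] [Nonempty V] (hVU : V ≤ U) (a : Γ(W, U)) :
    W.germToFunctionField V (W.presheaf.map (homOfLE hVU).op a) = W.germToFunctionField U a :=
  congr($(W.presheaf.germ_res (homOfLE hVU) (genericPoint W)
    (((genericPoint_spec W).mem_open_set_iff V.isOpen).mpr (by simpa using ‹Nonempty V›))) a)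

theorem isIntegrallyClosed_app (hnW : Pi1.IsNormalScheme W) {U : W.Opens} (hU : IsAffineOpen U)
    [Nonempty U] : IsIntegrallyClosed Γ(W, U) := by
  refine IsIntegrallyClosed.of_localization_maximal fun m _ hm => ?_
  let x : Spec Γ(W, U) := ⟨m, inferInstance⟩
  let y : W := hU.fromSpec x
  have hy : y ∈ U := hU.opensRange_fromSpec ▸ ⟨x, rfl⟩
  letI : Algebra Γ(W, U) (W.presheaf.stalk y) := TopCat.Presheaf.algebra_section_stalk W.presheaf ⟨y, hy⟩
  haveI : IsLocalization.AtPrime (W.presheaf.stalk y) m := hU.isLocalization_stalk' x hy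
  haveI := (hnW y).1
  haveI := (hnW y).2
  exact IsIntegrallyClosed.of_equiv
    (IsLocalization.algEquiv m.primeCompl (W.presheaf.stalk y) (Localization.AtPrime m)).toRingEquiv

variable [hfd : @FiniteDimensional W.functionField L _ _ φ.toAlgebra.toModule]

include hnW hfd in
theorem exists_unique_trace (U : W.Opens) [Nonempty U]
    (s : Γ(g.normalization, g.fromNormalization ⁻¹ᵁ U)) :
    ∃ a : Γ(W, U), W.germToFunctionField U a = tau φ g hg U s := by
  letI := φ.toAlgebra
  haveI : FiniteDimensional W.functionField L := hfd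
  have haff : ∀ (V : W.Opens) (_ : IsAffineOpen V) [Nonempty V] (hVU : V ≤ U),
      ∃ a : Γ(W, V), W.germToFunctionField V a = tau φ g hg U s := by
    intro V hV hne hVU
    haveI := functionField_isFractionRing_of_isAffineOpen W V hV
    haveI := isIntegrallyClosed_app hnW hV
    letI : Algebra Γ(W, V) L := (φ.comp (W.germToFunctionField V).hom).toAlgebra
    haveI : IsScalarTower Γ(W, V) W.functionField L := IsScalarTower.of_algebraMap_eq' rfl
    have hint : IsIntegral Γ(W, V) (psi φ g hg V (g.normalization.presheaf.map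
      ((Opens.map g.fromNormalization.base).map (homOfLE hVU)).op s)) :=
      isIntegral_psi φ g hg hV _
    obtain ⟨a, ha⟩ := IsIntegrallyClosed.isIntegral_iff.mp
      (Algebra.isIntegral_trace (R := Γ(W, V)) (L := W.functionField) (F := L) hint)
    exact ⟨a, ha.trans (tau_res φ g hg hVU s)⟩
  let ι := {V : W.Opens // IsAffineOpen V ∧ Nonempty V ∧ V ≤ U}
  have hch : ∀ i : ι, ∃ a : Γ(W, i.1), haveI := i.2.2.1; W.germToFunctionField i.1 a = tau φ g hg U s :=
    fun i => haveI := i.2.2.1; haff i.1 i.2.1 i.2.2.2
  choose a ha using hch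
  have hcov : U ≤ iSup (fun i : ι => i.1) := fun x hx => by
    obtain ⟨V, hV, hxV, hVU⟩ := exists_isAffineOpen_mem_and_subset (U := U) (x := x) hx
    exact Opens.mem_iSup.2 ⟨⟨V, hV, ⟨⟨x, hxV⟩⟩, hVU⟩, hxV⟩
  have hcompat : TopCat.Presheaf.IsCompatible W.sheaf.1 (fun i : ι => i.1) a := by
    intro i j
    haveI := i.2.2.1
    haveI := j.2.2.1
    have hi : genericPoint W ∈ i.1 :=
      ((genericPoint_spec W).mem_open_set_iff i.1.isOpen).mpr (by simpa using i.2.2.1)
    have hj : genericPoint W ∈ j.1 :=
      ((genericPoint_spec W).mem_open_set_iff j.1.isOpen).mpr (by simpa using j.2.2.1)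
    haveI : Nonempty (i.1 ⊓ j.1 : W.Opens) := ⟨⟨genericPoint W, hi, hj⟩⟩
    refine W.germToFunctionField_injective (i.1 ⊓ j.1) ?_
    exact ((germ_res (inf_le_left : i.1 ⊓ j.1 ≤ i.1) (a i)).trans (ha i)).trans
      ((germ_res (inf_le_right : i.1 ⊓ j.1 ≤ j.1) (a j)).trans (ha j)).symm
  obtain ⟨b, hb, -⟩ := W.sheaf.existsUnique_gluing' (fun i : ι => i.1) U
    (fun i => homOfLE i.2.2.2) hcov a hcompat
  refine ⟨b, ?_⟩
  obtain ⟨x, hx⟩ := ‹Nonempty U›
  obtain ⟨V, hV, hxV, hVU⟩ := exists_isAffineOpen_mem_and_subset (U := U) (x := x) hx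
  haveI : Nonempty V := ⟨⟨x, hxV⟩⟩
  have h := hb ⟨V, hV, inferInstance, hVU⟩
  rw [← germ_res hVU b]
  exact (congrArg (W.germToFunctionField V) h).trans (ha ⟨V, hV, inferInstance, hVU⟩)

include hnW hfd in
open Classical in
/-- The trace on sections over any open. -/
noncomputable def traceSec (U : W.Opens) :
    Γ(g.normalization, g.fromNormalization ⁻¹ᵁ U) →+ Γ(W, U) :=
  if h : Nonempty U then
    haveI := h
    { toFun := fun s => (exists_unique_trace φ g hg hnW U s).choose
      map_zero' := W.germToFunctionField_injective U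
        ((exists_unique_trace φ g hg hnW U 0).choose_spec.trans ((map_zero _).trans (map_zero _).symm))
      map_add' := fun s t => W.germToFunctionField_injective U
        ((exists_unique_trace φ g hg hnW U (s + t)).choose_spec.trans
          ((map_add _ _ _).trans ((congrArg₂ (· + ·) (exists_unique_trace φ g hg hnW U s).choose_spec.symm
            (exists_unique_trace φ g hg hnW U t).choose_spec.symm).trans (map_add _ _ _).symm))) }
  else 0

theorem germ_traceSec (U : W.Opens) [Nonempty U]
    (s : Γ(g.normalization, g.fromNormalization ⁻¹ᵁ U)) :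
    W.germToFunctionField U (traceSec φ g hg hnW U s) = tau φ g hg U s := by
  rw [traceSec, dif_pos ‹Nonempty U›]
  exact (exists_unique_trace φ g hg hnW U s).choose_spec

omit [IsIntegral W] [QuasiCompact g] [QuasiSeparated g] in
theorem subsingleton_of_empty {U : W.Opens} (h : ¬ Nonempty U) : Subsingleton Γ(W, U) := by
  obtain rfl : U = ⊥ := eq_bot_iff.2 fun x hx => (h ⟨⟨x, hx⟩⟩).elim
  infer_instance

include hnW hfd in
/-- The trace, as a map of abelian sheaves. -/
noncomputable def traceHom :
    Coh.toAb ((Coh.push g.fromNormalization).obj (Coh.structureModule g.normalization)) ⟶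
      Coh.toAb (Coh.structureModule W) :=
  ⟨{ app := fun U => AddCommGrpCat.ofHom (traceSec φ g hg hnW U.unop)
     naturality := fun U V i => by
      ext s
      by_cases h : Nonempty V.unop
      · haveI := h
        haveI : Nonempty U.unop := ⟨⟨h.some.1, i.unop.le h.some.2⟩⟩
        apply W.germToFunctionField_injective V.unop
        refine (germ_traceSec φ g hg hnW V.unop _).trans ?_
        refine Eq.trans ?_ (germ_res i.unop.le (traceSec φ g hg hnW U.unop s)).symm
        exact (tau_res φ g hg i.unop.le s).trans (germ_traceSec φ g hg hnW U.unop s).symm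
      · exact (subsingleton_of_empty h).elim _ _ }⟩

include hnW hfd in
theorem unit_comp_trace :
    (SheafOfModules.toSheaf W.ringCatSheaf).map (ClSub.unitToPush g.fromNormalization) ≫
      traceHom φ g hg hnW =
    Coh.smulAb (Coh.structureModule W)
      ((@Module.finrank W.functionField L _ _ φ.toAlgebra.toModule : ℕ) : Coh.Γtop W) := by
  letI := φ.toAlgebra
  haveI : FiniteDimensional W.functionField L := hfd
  ext U a
  by_cases h : Nonempty U.unop
  · haveI := h
    apply W.germToFunctionField_injective U.unop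
    refine (germ_traceSec φ g hg hnW U.unop _).trans ?_
    have main : ∀ a : Γ(W, U.unop), Algebra.trace W.functionField L
        (psi φ g hg U.unop (g.fromNormalization.app U.unop a)) =
          W.germToFunctionField U.unop ((Module.finrank W.functionField L : Γ(W, U.unop)) * a) := fun a => by
      rw [psi_app, map_mul, map_natCast, ← nsmul_eq_mul]
      exact Algebra.trace_algebraMap _
    refine (main a).trans (congrArg (W.germToFunctionField U.unop) ?_)
    refine Eq.trans ?_ (Coh.smulAb_app _ _ U a).symm
    rw [map_natCast]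
    rfl
  · exact (subsingleton_of_empty h).elim _ _

end Trace

end Groth.Agent.Lib.RatSing74.Trace
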